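import Mathlib

/-!
Derived length of finite nilpotent linear groups in coprime characteristic: a representation of degree
`n` of a finite nilpotent group whose order is invertible in the field kills the term number
`log₂ n + 1` of the derived series.
-/

set_option autoImplicit false

namespace CfsgLib.NilpotentLinear

open Module
open scoped commutatorElement

variable {P : Type*} [Group P]

theorem derivedSeries_succ_le_map {M : Subgroup P} (hM : commutator P ≤ M) (i : ℕ) :
    derivedSeries P (i + 1) ≤ (derivedSeries M i).map M.subtype := by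
  induction i with
  | zero =>
    rw [derivedSeries_one, derivedSeries_zero, ← MonoidHom.range_eq_map, Subgroup.range_subtype]
    exact hM
  | succ i ih =>
    rw [derivedSeries_succ, derivedSeries_succ M i, Subgroup.map_commutator]
    exact Subgroup.commutator_mono ih ih

variable {K : Type*} [Field K] {V : Type*} [AddCommGroup V] [Module K V]

/-- Restriction of a representation to an invariant subspace. -/
def restrictRep (ρ : P →* End K V) (U : Submodule K V) (hU : ∀ g : P, ∀ v ∈ U, ρ g v ∈ U) : P →* End K U where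
  toFun g := (ρ g).restrict (hU g)
  map_one' := by
    refine LinearMap.ext fun v => Subtype.ext ?_
    simp
  map_mul' g h := by
    refine LinearMap.ext fun v => Subtype.ext ?_
    simp

theorem mem_ker_of_restrict {ρ : P →* End K V} {U W : Submodule K V} (hUW : U ⊔ W = ⊤)
    (hU : ∀ g : P, ∀ v ∈ U, ρ g v ∈ U) (hW : ∀ g : P, ∀ v ∈ W, ρ g v ∈ W) {x : P}
    (hxU : x ∈ (restrictRep ρ U hU).ker) (hxW : x ∈ (restrictRep ρ W hW).ker) : x ∈ ρ.ker := by
  refine LinearMap.ext fun v => ?_
  obtain ⟨u, hu, w, hw, rfl⟩ := (Submodule.sup_eq_top_iff U W).1 hUW v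
  have h1 : ρ x u = u := congrArg Subtype.val (LinearMap.congr_fun hxU ⟨u, hu⟩)
  have h2 : ρ x w = w := congrArg Subtype.val (LinearMap.congr_fun hxW ⟨w, hw⟩)
  simp [h1, h2]

/-- Maschke: an invariant subspace has an invariant complement. -/
theorem exists_invariant_compl [Fintype P] (hP : (Fintype.card P : K) ≠ 0) (ρ : P →* End K V)
    (U : Submodule K V) (hU : ∀ g : P, ∀ v ∈ U, ρ g v ∈ U) :
    ∃ W : Submodule K V, IsCompl U W ∧ ∀ g : P, ∀ v ∈ W, ρ g v ∈ W := by
  obtain ⟨W₀, hW₀⟩ := Submodule.exists_isCompl U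
  let π : End K V := U.subtype ∘ₗ U.projectionOnto W₀ hW₀
  have hπU : ∀ v, π v ∈ U := fun v => (U.projectionOnto W₀ hW₀ v).2
  have hπid : ∀ u ∈ U, π u = u := fun u hu =>
    congrArg Subtype.val (Submodule.projectionOnto_apply_left hW₀ ⟨u, hu⟩)
  let A : End K V := (Fintype.card P : K)⁻¹ • ∑ g : P, ρ g * π * ρ g⁻¹
  have hAU : ∀ v, A v ∈ U := fun v => by
    simp only [A, LinearMap.smul_apply, LinearMap.sum_apply, End.mul_apply]
    exact U.smul_mem _ (U.sum_mem fun g _ => hU g _ (hπU _))
  have hAid : ∀ u ∈ U, A u = u := fun u hu => by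
    simp only [A, LinearMap.smul_apply, LinearMap.sum_apply, End.mul_apply]
    rw [Finset.sum_congr rfl fun g _ => show ρ g (π (ρ g⁻¹ u)) = u by
        rw [hπid _ (hU g⁻¹ u hu), ← End.mul_apply, ← map_mul, mul_inv_cancel, map_one, End.one_apply],
      Finset.sum_const, Finset.card_univ, ← Nat.cast_smul_eq_nsmul K, smul_smul, inv_mul_cancel₀ hP, one_smul]
  refine ⟨LinearMap.ker A, ⟨?_, ?_⟩, fun g v hv => ?_⟩
  · rw [disjoint_iff_inf_le]
    rintro v ⟨hv, hv'⟩
    exact (Submodule.mem_bot K).2 ((hAid v hv).symm.trans hv')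
  · rw [codisjoint_iff_le_sup]
    intro v _
    refine Submodule.mem_sup.2 ⟨A v, hAU v, v - A v, ?_, by abel⟩
    show A (v - A v) = 0
    rw [map_sub, hAid _ (hAU v), sub_self]
  · have hcomm : A * ρ g = ρ g * A := by
      simp only [A, smul_mul_assoc, mul_smul_comm, Finset.sum_mul, Finset.mul_sum]
      congr 1
      refine (Fintype.sum_equiv (Equiv.mulLeft g) _ _ fun h => ?_).symm
      simp only [Equiv.coe_mulLeft, mul_inv_rev, map_mul, mul_assoc]
      rw [← map_mul ρ g⁻¹ g, inv_mul_cancel, map_one, mul_one]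
    show A (ρ g v) = 0
    rw [← End.mul_apply, hcomm, End.mul_apply, show A v = 0 from hv, map_zero]

/-- In a nilpotent group that is not commutative some non-central element has all commutators central. -/
theorem exists_second_center {G : Type*} [Group G] [Group.IsNilpotent G] (h : ∃ x y : G, x * y ≠ y * x) :
    ∃ a : G, a ∉ Subgroup.center G ∧ ∀ g : G, ⁅a, g⁆ ∈ Subgroup.center G := by
  by_contra hno
  push Not at hno
  have key : ∀ n, Subgroup.upperCentralSeries G n ≤ Subgroup.center G := by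
    intro n
    induction n with
    | zero => simp
    | succ n ih =>
      intro a ha
      by_contra hac
      obtain ⟨g, hg⟩ := hno a hac
      exact hg (ih (Subgroup.mem_upperCentralSeries_succ_iff.1 ha g))
  obtain ⟨n, hn⟩ := Group.IsNilpotent.nilpotent G
  obtain ⟨x, y, hxy⟩ := h
  have : x ∈ Subgroup.center G := key n (hn ▸ Subgroup.mem_top x)
  exact hxy (Subgroup.mem_center_iff.1 this y).symm

/-- A finite nilpotent group of order prime to the characteristic, acting in dimension at most `n`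
over an algebraically closed field, has `derivedSeries (log₂ n + 1)` acting trivially. -/
theorem derivedSeries_le_ker_aux {K : Type*} [Field K] [IsAlgClosed K] (n : ℕ) :
    ∀ (P : Type*) [Group P] [Fintype P] [Group.IsNilpotent P], ((Fintype.card P : ℕ) : K) ≠ 0 →
    ∀ (V : Type*) [AddCommGroup V] [Module K V] [FiniteDimensional K V] (ρ : P →* End K V),
      finrank K V ≤ n → derivedSeries P (Nat.log 2 n + 1) ≤ ρ.ker := by
  induction n using Nat.strong_induction_on with
  | _ n ih =>
  intro P _ _ _ hP V _ _ _ ρ hn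
  classical
  rcases subsingleton_or_nontrivial V with hV | hV
  · exact fun x _ => LinearMap.ext fun v => Subsingleton.elim _ _
  by_cases hred : ∃ U : Submodule K V, U ≠ ⊥ ∧ U ≠ ⊤ ∧ ∀ g : P, ∀ v ∈ U, ρ g v ∈ U
  · obtain ⟨U, hU0, hU1, hU⟩ := hred
    obtain ⟨W, hUW, hW⟩ := exists_invariant_compl hP ρ U hU
    have hWne : W ≠ ⊤ := fun h => hU0 (eq_bot_iff.2 (le_trans (le_inf le_rfl (h ▸ le_top)) hUW.disjoint.eq_bot.le))
    have step : ∀ (X : Submodule K V) (hX : ∀ g : P, ∀ v ∈ X, ρ g v ∈ X), X ≠ ⊤ →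
        derivedSeries P (Nat.log 2 n + 1) ≤ (restrictRep ρ X hX).ker := by
      intro X hX hne
      have hlt : finrank K X < n := lt_of_lt_of_le (Submodule.finrank_lt hne) hn
      exact le_trans (derivedSeries_antitone P (Nat.add_le_add_right (Nat.log_mono_right hlt.le) 1))
        (ih _ hlt P hP X _ le_rfl)
    exact fun x hx => mem_ker_of_restrict hUW.codisjoint.eq_top hU hW (step U hU hU1 hx) (step W hW hWne hx)
  push Not at hred
  have hscal : ∀ f : End K V, (∀ g, ρ g * f = f * ρ g) → ∃ c : K, f = c • 1 := by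
    intro f hf
    obtain ⟨c, hc⟩ := End.exists_eigenvalue f
    refine ⟨c, ?_⟩
    by_cases htop : f.eigenspace c = ⊤
    · refine LinearMap.ext fun v => ?_
      have : v ∈ f.eigenspace c := htop ▸ Submodule.mem_top
      simpa using End.mem_eigenspace_iff.1 this
    · obtain ⟨g, v, hv, hgv⟩ := hred _ hc htop
      refine absurd ?_ hgv
      rw [End.mem_eigenspace_iff] at hv ⊢
      rw [← End.mul_apply, ← hf g, End.mul_apply, hv, map_smul]
  let ρ' := ρ.toHomUnits
  have hρ' : ∀ g, (ρ' g : End K V) = ρ g := fun g => rfl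
  by_cases hab : ∀ x y : ρ'.range, x * y = y * x
  · refine le_trans (derivedSeries_antitone P (Nat.succ_le_succ (Nat.zero_le _))) ?_
    rw [show Nat.succ 0 = 1 from rfl, derivedSeries_one, commutator_def, Subgroup.commutator_le]
    intro x _ y _
    have hc : ρ x * ρ y = ρ y * ρ x :=
      congrArg (fun u : ρ'.range => ((u : (End K V)ˣ) : End K V)) (hab ⟨ρ' x, x, rfl⟩ ⟨ρ' y, y, rfl⟩)
    show ρ ⁅x, y⁆ = 1
    rw [commutatorElement_def, map_mul, map_mul, map_mul, hc, mul_assoc (ρ y), ← map_mul ρ x x⁻¹,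
      mul_inv_cancel, map_one, mul_one, ← map_mul, mul_inv_cancel, map_one]
  push Not at hab
  haveI : Group.IsNilpotent ρ'.range := Group.nilpotent_of_surjective ρ'.rangeRestrict ρ'.rangeRestrict_surjective
  obtain ⟨⟨_, a, rfl⟩, hanc, hcc⟩ := exists_second_center hab
  have hnscal : ¬∃ c : K, ρ a = c • 1 := by
    rintro ⟨c, hc⟩
    refine hanc (Subgroup.mem_center_iff.2 ?_)
    rintro ⟨_, g, rfl⟩
    refine Subtype.ext (Units.ext ?_)
    show ρ g * ρ a = ρ a * ρ g
    rw [hc, mul_smul_comm, smul_mul_assoc, mul_one, one_mul]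
  have htwist : ∀ g : P, ∃ c : K, c ≠ 0 ∧ ρ a * ρ g = c • (ρ g * ρ a) := by
    intro g
    have hz := Subgroup.mem_center_iff.1 (hcc ⟨ρ' g, g, rfl⟩)
    obtain ⟨c, hc⟩ := hscal (ρ ⁅a, g⁆) fun h => by
      have := congrArg (fun u : ρ'.range => ((u : (End K V)ˣ) : End K V)) (hz ⟨ρ' h, h, rfl⟩)
      simp only [commutatorElement_def, Subgroup.coe_mul, Subgroup.coe_inv, ← map_mul, ← map_inv,
        hρ'] at this
      rw [← map_mul, ← map_mul, commutatorElement_def]
      exact this
    have h1 : ρ a * ρ g = c • (ρ g * ρ a) := by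
      calc ρ a * ρ g = ρ ⁅a, g⁆ * (ρ g * ρ a) := by
            simp only [← map_mul, commutatorElement_def]; congr 1; group
        _ = c • (ρ g * ρ a) := by rw [hc, smul_mul_assoc, one_mul]
    refine ⟨c, fun h0 => ?_, h1⟩
    rw [h0, zero_smul, ← map_mul] at h1
    have := congrArg (fun f => f * ρ (a * g)⁻¹) h1
    simp only [zero_mul, ← map_mul, mul_inv_cancel, map_one] at this
    exact one_ne_zero this
  choose c hc0 hc using htwist
  let M : Subgroup P := (Subgroup.centralizer {ρ' a}).comap ρ'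
  have hMmem : ∀ x, x ∈ M ↔ ρ a * ρ x = ρ x * ρ a := fun x => by
    simp only [M, Subgroup.mem_comap, Subgroup.mem_centralizer_singleton_iff, Units.ext_iff, Units.val_mul, hρ']
    exact eq_comm
  have hcomM : commutator P ≤ M := by
    rw [commutator_def, Subgroup.commutator_le]
    intro x _ y _
    rw [hMmem]
    have e : ∀ z, ρ a * ρ z⁻¹ = (c z)⁻¹ • (ρ z⁻¹ * ρ a) := fun z => by
      calc ρ a * ρ z⁻¹ = (c z)⁻¹ • (ρ z⁻¹ * (c z • (ρ z * ρ a)) * ρ z⁻¹) := by
            rw [mul_smul_comm, smul_mul_assoc, smul_smul, inv_mul_cancel₀ (hc0 z), one_smul,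
              ← mul_assoc (ρ z⁻¹), ← map_mul ρ z⁻¹ z, inv_mul_cancel, map_one, one_mul]
        _ = (c z)⁻¹ • (ρ z⁻¹ * ρ a) := by
            rw [← hc, mul_assoc, mul_assoc (ρ a), ← map_mul, mul_inv_cancel, map_one, mul_one]
    simp only [commutatorElement_def, map_mul]
    rw [← mul_assoc (ρ a), ← mul_assoc (ρ a), ← mul_assoc (ρ a), hc x]
    simp only [smul_mul_assoc, mul_assoc]
    rw [← mul_assoc (ρ a) (ρ y), hc y]
    simp only [smul_mul_assoc, mul_smul_comm, mul_assoc, smul_smul]
    rw [← mul_assoc (ρ a) (ρ x⁻¹), e x]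
    simp only [smul_mul_assoc, mul_smul_comm, mul_assoc, smul_smul, e y]
    rw [show c x * (c y * ((c x)⁻¹ * (c y)⁻¹)) = 1 by field_simp [hc0 x, hc0 y], one_smul]
  obtain ⟨μ, hμ⟩ := End.exists_eigenvalue (ρ a)
  set E := fun ν : K => (ρ a).eigenspace ν with hE
  have hmap : ∀ (g : P) (ν : K), ∀ v ∈ E ν, ρ g v ∈ E (c g * ν) := by
    intro g ν v hv
    simp only [hE, End.mem_eigenspace_iff] at hv ⊢
    rw [← End.mul_apply, hc g, LinearMap.smul_apply, End.mul_apply, hv, map_smul, smul_smul]
  have hEtop : ⨆ g : P, E (c g * μ) = ⊤ := by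
    by_contra hne
    set S := ⨆ g : P, E (c g * μ)
    have hS0 : S ≠ ⊥ := fun h => hμ (eq_bot_iff.2 fun v hv => by
      have h1 : ρ 1 v ∈ S := Submodule.mem_iSup_of_mem 1 (hmap 1 μ v hv)
      rw [map_one, h] at h1
      simpa using h1)
    obtain ⟨g, v, hv, hgv⟩ := hred S hS0 hne
    refine hgv ?_
    clear hgv
    induction hv using Submodule.iSup_induction' with
    | mem k v hv =>
      rcases eq_or_ne v 0 with rfl | hv0
      · simp
      obtain ⟨u, hu, rfl⟩ : ∃ u ∈ E μ, ρ k u = v := by
        refine ⟨ρ k⁻¹ v, ?_, by rw [← End.mul_apply, ← map_mul, mul_inv_cancel, map_one, End.one_apply]⟩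
        have hv' := End.mem_eigenspace_iff.1 hv
        have hkk : ρ k (ρ k⁻¹ v) = v := by
          rw [← End.mul_apply, ← map_mul, mul_inv_cancel, map_one, End.one_apply]
        simp only [hE, End.mem_eigenspace_iff]
        have h3 : c k • ρ k (ρ a (ρ k⁻¹ v)) = c k • ρ k (μ • ρ k⁻¹ v) := by
          rw [← End.mul_apply (ρ k) (ρ a), ← LinearMap.smul_apply, ← hc k, End.mul_apply, hkk, hv',
            map_smul, hkk, smul_smul]
        have h4 : ρ k⁻¹ (ρ k (ρ a (ρ k⁻¹ v))) = ρ k⁻¹ (ρ k (μ • ρ k⁻¹ v)) := by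
          rw [smul_right_injective V (hc0 k) h3]
        simpa [← End.mul_apply, ← map_mul] using h4
      rw [← End.mul_apply, ← map_mul]
      exact Submodule.mem_iSup_of_mem (g * k) (hmap _ _ u hu)
    | zero => simp
    | add x y _ _ hx hy => rw [map_add]; exact add_mem hx hy
  obtain ⟨m, rfl⟩ | hn0 : (∃ m, n = m + 2) ∨ n ≤ 1 := by
    rcases n with _ | _ | m
    exacts [Or.inr (by norm_num), Or.inr le_rfl, Or.inl ⟨m, rfl⟩]
  swap
  · obtain ⟨v, hv⟩ := exists_ne (0 : V)
    have h1 : finrank K V = 1 := by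
      have := Module.finrank_pos (R := K) (M := V)
      omega
    refine absurd ?_ hnscal
    obtain ⟨t, ht⟩ := (finrank_eq_one_iff_of_nonzero' v hv).1 h1 (ρ a v)
    refine ⟨t, LinearMap.ext fun w => ?_⟩
    obtain ⟨s, rfl⟩ := (finrank_eq_one_iff_of_nonzero' v hv).1 h1 w
    simp [← ht, smul_comm t s]
  have hdim : ∀ g : P, 2 * finrank K (E (c g * μ)) ≤ m + 2 := by
    intro g
    obtain ⟨h, hh⟩ : ∃ h, c h * (c g * μ) ≠ c g * μ ∨ False := by
      by_contra hall
      push Not at hall
      refine hnscal ⟨c g * μ, LinearMap.ext fun v => ?_⟩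
      have hsame : ∀ k, E (c k * μ) ≤ E (c g * μ) := by
        intro k
        rcases eq_or_ne μ 0 with h0 | h0
        · simp [h0]
        · have := (hall k).1
          have hk : c k = 1 := by
            refine mul_right_cancel₀ (mul_ne_zero (hc0 g) h0) ?_
            rw [this, one_mul]
          have hg : c g = 1 := by
            refine mul_right_cancel₀ (mul_ne_zero (hc0 g) h0) ?_
            rw [(hall g).1, one_mul]
          rw [hk, hg]
      have : v ∈ E (c g * μ) := (iSup_le hsame : ⨆ k, E (c k * μ) ≤ _) (hEtop ▸ Submodule.mem_top)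
      simpa using End.mem_eigenspace_iff.1 this
    rw [or_false] at hh
    have hle : finrank K (E (c g * μ)) ≤ finrank K (E (c h * (c g * μ))) := by
      refine LinearMap.finrank_le_finrank_of_injective (f := (ρ h).restrict (fun v hv => hmap h _ v hv)) ?_
      intro u w huw
      have := congrArg (fun x : E (c h * (c g * μ)) => ρ h⁻¹ (x : V)) huw
      simpa [← End.mul_apply, ← map_mul] using this
    have hdis : Disjoint (E (c h * (c g * μ))) (E (c g * μ)) :=
      (End.eigenspaces_iSupIndep (ρ a)).pairwiseDisjoint hh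
    have h3 := Submodule.finrank_sup_add_finrank_inf_eq (E (c h * (c g * μ))) (E (c g * μ))
    rw [hdis.eq_bot, finrank_bot, add_zero] at h3
    have h4 := Submodule.finrank_le (E (c h * (c g * μ)) ⊔ E (c g * μ))
    omega
  have hlog : Nat.log 2 (m + 2) = Nat.log 2 ((m + 2) / 2) + 1 := by
    rw [Nat.log_div_base]
    have := Nat.log_pos (show 1 < 2 by norm_num) (show 2 ≤ m + 2 by omega)
    omega
  haveI : Fintype M := Fintype.ofFinite M
  have hPM : ((Fintype.card M : ℕ) : K) ≠ 0 := by
    intro h0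
    obtain ⟨t, ht⟩ : Fintype.card M ∣ Fintype.card P := by
      rw [← Nat.card_eq_fintype_card, ← Nat.card_eq_fintype_card]
      exact M.card_subgroup_dvd_card
    exact hP (by rw [ht, Nat.cast_mul, h0, zero_mul])
  intro x hx
  obtain ⟨y, hy, rfl⟩ := derivedSeries_succ_le_map hcomM _ hx
  rw [hlog] at hy
  refine LinearMap.ext fun v => ?_
  have hv : v ∈ ⨆ g : P, E (c g * μ) := hEtop ▸ Submodule.mem_top
  induction hv using Submodule.iSup_induction' with
  | mem g v hv =>
    have hinv : ∀ z : M, ∀ w ∈ E (c g * μ), (ρ.comp M.subtype) z w ∈ E (c g * μ) := by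
      intro z w hw
      simp only [hE, End.mem_eigenspace_iff] at hw ⊢
      show ρ a (ρ (z : P) w) = _
      rw [← End.mul_apply, (hMmem _).1 z.2, End.mul_apply, hw, map_smul]
      rfl
    have hd := hdim g
    have hle : finrank K (E (c g * μ)) ≤ (m + 2) / 2 := by omega
    have := ih ((m + 2) / 2) (by omega) M hPM (E (c g * μ)) (restrictRep (ρ.comp M.subtype) _ hinv) hle hy
    exact congrArg Subtype.val (LinearMap.congr_fun this ⟨v, hv⟩)
  | zero => simp
  | add x z _ _ hx hz => simp only [map_add, hx, hz]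

/-- The bound over an arbitrary field, for matrix groups. -/
theorem derivedSeries_le_ker {K : Type*} [Field K] {ι : Type*} [Fintype ι] [DecidableEq ι] {P : Type*} [Group P]
    [Finite P] [Group.IsNilpotent P] (hP : ((Nat.card P : ℕ) : K) ≠ 0) (ρ : P →* Matrix ι ι K) :
    derivedSeries P (Nat.log 2 (Fintype.card ι) + 1) ≤ ρ.ker := by
  haveI := Fintype.ofFinite P
  let f := algebraMap K (AlgebraicClosure K)
  let ρ' : P →* End (AlgebraicClosure K) (ι → AlgebraicClosure K) :=
    (Matrix.toLinAlgEquiv' (R := AlgebraicClosure K) (n := ι)).toMulEquiv.toMonoidHom.comp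
      ((f.mapMatrix : Matrix ι ι K →+* Matrix ι ι (AlgebraicClosure K)).toMonoidHom.comp ρ)
  have hP' : ((Fintype.card P : ℕ) : AlgebraicClosure K) ≠ 0 := by
    rw [← Nat.card_eq_fintype_card, ← map_natCast f]
    exact fun h => hP (f.injective (h.trans (map_zero f).symm))
  intro x hx
  have h1 : ρ' x = 1 := derivedSeries_le_ker_aux (Fintype.card ι) P hP' _ ρ' (by simp) hx
  have h2 : f.mapMatrix (ρ x) = 1 :=
    (Matrix.toLinAlgEquiv' (R := AlgebraicClosure K) (n := ι)).injective (h1.trans (map_one _).symm)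
  exact Matrix.map_injective f.injective (h2.trans (map_one f.mapMatrix).symm)

end CfsgLib.NilpotentLinear
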